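import Groth.Agent.QC.Sections
import Groth.Prelude.Def_CurvBase
import Mathlib

/-!
# Weakly associated points of quasi-coherent modules
-/

set_option autoImplicit false
set_option backward.isDefEq.respectTransparency false

universe u

open CategoryTheory AlgebraicGeometry TopologicalSpace Opposite Groth.Agent.QC

namespace Groth.Agent.WeakAssLib

variable {X : Scheme.{u}} (F : X.Modules)

/-- germ of a module section -/
noncomputable abbrev mgerm {U : X.Opens} {x : X} (hx : x ∈ U) : Γ(F, U) →+ F.presheaf.stalk x :=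
  (F.presheaf.germ U x hx).hom

theorem mgerm_smul {U : X.Opens} {x : X} (hx : x ∈ U) (r : Γ(X, U)) (s : Γ(F, U)) :
    mgerm F hx (r • s) = (X.presheaf.germ U x hx).hom r • mgerm F hx s :=
  PresheafOfModules.germ_smul F.val x U hx r s

theorem mgerm_res {V U : X.Opens} {x : X} (h : V ≤ U) (hx : x ∈ V) (s : Γ(F, U)) :
    mgerm F hx (res F h s) = mgerm F (h hx) s :=
  F.presheaf.germ_res_apply _ _ _ _

theorem ext_germ {U : X.Opens} (s : Γ(F, U)) (h : ∀ (x : X) (hx : x ∈ U), mgerm F hx s = 0) : s = 0 :=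
  TopCat.Presheaf.section_ext (abSheaf F) U s 0 fun x hx => (h x hx).trans (map_zero _).symm

variable {F}
variable {U : X.Opens} (hU : IsAffineOpen U)

theorem mem_primeIdealOf {x : X} (hx : x ∈ U) (f : Γ(X, U)) :
    x ∈ X.basicOpen f ↔ f ∉ (hU.primeIdealOf ⟨x, hx⟩).asIdeal := by
  have e : hU.fromSpec.base (hU.primeIdealOf ⟨x, hx⟩) = x := hU.fromSpec_primeIdealOf ⟨x, hx⟩
  have h : hU.primeIdealOf ⟨x, hx⟩ ∈ hU.fromSpec ⁻¹ᵁ X.basicOpen f ↔
      hU.primeIdealOf ⟨x, hx⟩ ∈ PrimeSpectrum.basicOpen f := by rw [hU.fromSpec_preimage_basicOpen]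
  exact ⟨fun hxf => h.1 (show hU.fromSpec.base _ ∈ X.basicOpen f by rw [e]; exact hxf),
    fun hf => e ▸ (h.2 hf : hU.fromSpec.base _ ∈ X.basicOpen f)⟩

theorem isUnit_germ {x : X} (hx : x ∈ U) {a : Γ(X, U)} (ha : a ∉ (hU.primeIdealOf ⟨x, hx⟩).asIdeal) :
    IsUnit ((X.presheaf.germ U x hx).hom a) :=
  (X.mem_basicOpen a x hx).1 ((mem_primeIdealOf hU hx a).2 ha)

variable (hF : IsLoc F U)

include hF in
theorem germ_eq_zero_iff {x : X} (hx : x ∈ U) (s : Γ(F, U)) :
    mgerm F hx s = 0 ↔ ∃ a : Γ(X, U), a ∉ (hU.primeIdealOf ⟨x, hx⟩).asIdeal ∧ a • s = 0 := by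
  constructor
  · intro h
    obtain ⟨W, hxW, iU, iV, he⟩ :=
      TopCat.Presheaf.germ_eq F.presheaf x hx hx s 0 (h.trans (map_zero _).symm)
    obtain ⟨f, hf, hxf⟩ := hU.exists_basicOpen_le (V := W) ⟨x, hxW⟩ hx
    have h0 : res F (X.basicOpen_le f) s = 0 := by
      rw [← res_res F hf iU.le]
      exact (congrArg (res F hf) he).trans (by simp)
    obtain ⟨n, hn⟩ := hF.exists_pow_smul_eq_zero f s h0
    refine ⟨f ^ n, fun hfn => (mem_primeIdealOf hU hx f).1 hxf ?_, hn⟩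
    exact (hU.primeIdealOf ⟨x, hx⟩).isPrime.mem_of_pow_mem n hfn
  · rintro ⟨a, ha, has⟩
    have h := mgerm_smul F hx a s
    rw [has, map_zero] at h
    exact (isUnit_germ hU hx ha).smul_eq_zero.1 h.symm

include hF in
theorem exists_germ {x : X} (hx : x ∈ U) (t : F.presheaf.stalk x) :
    ∃ (a : Γ(X, U)) (s : Γ(F, U)), a ∉ (hU.primeIdealOf ⟨x, hx⟩).asIdeal ∧
      (X.presheaf.germ U x hx).hom a • t = mgerm F hx s := by
  obtain ⟨W, hxW, w, hw⟩ := F.presheaf.exists_germ_eq (x := x) t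
  obtain ⟨f, hf, hxf⟩ := hU.exists_basicOpen_le (V := W) ⟨x, hxW⟩ hx
  obtain ⟨n, s, hs⟩ := hF.exists_extend f (res F hf w)
  refine ⟨f ^ n, s, fun hfn => (mem_primeIdealOf hU hx f).1 hxf ?_, ?_⟩
  · exact (hU.primeIdealOf ⟨x, hx⟩).isPrime.mem_of_pow_mem n hfn
  · rw [← mgerm_res F (X.basicOpen_le f) hxf s, hs, mgerm_smul, mgerm_res F hf hxf w]
    show _ = (X.presheaf.germ (X.basicOpen f) x hxf).hom (resO X (X.basicOpen_le f) f ^ n) •
      mgerm F hxW w
    rw [← map_pow, show (X.presheaf.germ (X.basicOpen f) x hxf).hom (resO X (X.basicOpen_le f) (f ^ n)) =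
      (X.presheaf.germ U x hx).hom (f ^ n) from X.presheaf.germ_res_apply _ _ _ _]
    exact congrArg _ hw.symm

include hF in
/-- Weakly associated points on an affine open correspond to primes minimal over annihilators. -/
theorem isWeakAssPoint_iff {x : X} (hx : x ∈ U) :
    Curv2.IsWeakAssPoint F x ↔ ∃ s : Γ(F, U), (hU.primeIdealOf ⟨x, hx⟩).asIdeal ∈
      Ideal.minimalPrimes (LinearMap.ker (LinearMap.toSpanSingleton Γ(X, U) Γ(F, U) s)) := by
  let g := (X.presheaf.germ U x hx).hom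
  let p := (hU.primeIdealOf ⟨x, hx⟩).asIdeal
  letI := g.toAlgebra
  haveI : IsLocalization.AtPrime (X.presheaf.stalk x) p := hU.isLocalization_stalk ⟨x, hx⟩
  have hm : (IsLocalRing.maximalIdeal (X.presheaf.stalk x)).comap g = p := by
    exact IsLocalization.AtPrime.under_maximalIdeal (X.presheaf.stalk x) p
  constructor
  · rintro ⟨t, ht⟩
    obtain ⟨a, s, ha, has⟩ := exists_germ hU hF hx t
    refine ⟨s, ⟨(hU.primeIdealOf ⟨x, hx⟩).isPrime, fun b hb => ?_⟩, fun q hq hqp b hb => ?_⟩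
    · by_contra hbp
      have h0 : mgerm F hx s = 0 := (germ_eq_zero_iff hU hF hx s).2 ⟨b, hbp, hb⟩
      rw [h0] at has
      have ht0 : t = 0 := (isUnit_germ hU hx ha).smul_eq_zero.1 has
      rw [ht0, LinearMap.toSpanSingleton_zero, LinearMap.ker_zero, Ideal.radical_top] at ht
      exact (IsLocalRing.maximalIdeal.isMaximal _).ne_top ht.symm
    · have hbm : g b ∈ IsLocalRing.maximalIdeal (X.presheaf.stalk x) := by
        exact (SetLike.ext_iff.1 hm b).2 hb
      rw [← ht] at hbm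
      obtain ⟨n, hn⟩ := hbm
      have h0 : mgerm F hx (b ^ n • s) = 0 := by
        rw [mgerm_smul, ← has, smul_comm, map_pow]
        rw [show g b ^ n • t = 0 from hn, smul_zero]
      obtain ⟨c, hc, hcs⟩ := (germ_eq_zero_iff hU hF hx _).1 h0
      have hmem : c * b ^ n ∈ q := hq.2 (by
        show (c * b ^ n) • s = 0
        rw [mul_smul]; exact hcs)
      exact hq.1.mem_of_pow_mem n ((hq.1.mem_or_mem hmem).resolve_left fun h => hc (hqp h))
  · rintro ⟨s, hs⟩
    refine ⟨mgerm F hx s, ?_⟩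
    set K := LinearMap.ker (LinearMap.toSpanSingleton (X.presheaf.stalk x) (F.presheaf.stalk x) (mgerm F hx s))
    have hKtop : K ≠ ⊤ := by
      intro h
      have h1 : mgerm F hx s = 0 := by
        have : (1 : X.presheaf.stalk x) ∈ K := h ▸ trivial
        simpa [K] using this
      obtain ⟨c, hc, hcs⟩ := (germ_eq_zero_iff hU hF hx s).1 h1
      exact hc (hs.1.2 hcs)
    refine le_antisymm (IsLocalRing.le_maximalIdeal fun h => hKtop (Ideal.radical_eq_top.1 h)) ?_
    rw [Ideal.radical_eq_sInf]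
    refine le_sInf fun Q hQ => ?_
    have hQp : Q.comap g ≤ p := by
      rw [← hm]
      exact Ideal.comap_mono (IsLocalRing.le_maximalIdeal hQ.2.ne_top)
    have hker : LinearMap.ker (LinearMap.toSpanSingleton Γ(X, U) Γ(F, U) s) ≤ Q.comap g := fun b hb => by
      refine hQ.1 ?_
      show g b • mgerm F hx s = 0
      rw [← mgerm_smul, show b • s = 0 from hb, map_zero]
    have hpQ : p ≤ Q.comap g := hs.2 ⟨hQ.2.comap g, hker⟩ hQp
    intro z hz
    obtain ⟨r, c, rfl⟩ := IsLocalization.exists_mk'_eq p.primeCompl z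
    rw [IsLocalization.AtPrime.mk'_mem_maximal_iff (X.presheaf.stalk x) p] at hz
    rw [IsLocalization.mk'_mem_iff]
    exact hpQ hz

theorem exists_weakAss (hFq : Coh.IsQCoh F) {V : X.Opens} {x : X} (hx : x ∈ V) (s : Γ(F, V))
    (hne : mgerm F hx s ≠ 0) :
    ∃ (y : X) (hy : y ∈ V), y ⤳ x ∧ Curv2.IsWeakAssPoint F y ∧ mgerm F hy s ≠ 0 := by
  obtain ⟨U, hU, hxU, hUV⟩ := exists_isAffineOpen_mem_and_subset (X := X) (U := V) hx
  have hF : IsLoc F U := isLoc_of_isQCoh hU (hM := hFq)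
  set t := res F hUV s
  set p := hU.primeIdealOf ⟨x, hxU⟩
  set J := LinearMap.ker (LinearMap.toSpanSingleton Γ(X, U) Γ(F, U) t)
  have hJ : J ≤ p.asIdeal := fun a ha => by
    by_contra hap
    exact hne (mgerm_res F hUV hxU s ▸ (germ_eq_zero_iff hU hF hxU t).2 ⟨a, hap, ha⟩)
  obtain ⟨q, hq, hqp⟩ := Ideal.exists_minimalPrimes_le hJ
  let q' : Spec Γ(X, U) := ⟨q, hq.1.1⟩
  have hy : hU.fromSpec.base q' ∈ U := hU.range_fromSpec.subset ⟨q', rfl⟩
  have hqy : hU.primeIdealOf ⟨_, hy⟩ = q' :=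
    hU.fromSpec.isOpenEmbedding.injective (hU.fromSpec_primeIdealOf ⟨_, hy⟩)
  refine ⟨hU.fromSpec.base q', hUV hy, ?_, (isWeakAssPoint_iff hU hF hy).2 ⟨t, by rw [hqy]; exact hq⟩, ?_⟩
  · have h1 := ((PrimeSpectrum.le_iff_specializes q' p).1 hqp).map hU.fromSpec.continuous
    have e : hU.fromSpec.base p = x := hU.fromSpec_primeIdealOf ⟨x, hxU⟩
    rwa [e] at h1
  · intro h
    obtain ⟨a, ha, hat⟩ := (germ_eq_zero_iff hU hF hy t).1 ((mgerm_res F hUV hy s).trans h)
    rw [hqy] at ha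
    exact ha (hq.1.2 hat)

/-- A section with vanishing germs at all weakly associated points is zero. -/
theorem eq_zero_of_forall (hFq : Coh.IsQCoh F) {V : X.Opens} (s : Γ(F, V))
    (h : ∀ (y : X) (hy : y ∈ V), Curv2.IsWeakAssPoint F y → mgerm F hy s = 0) : s = 0 :=
  ext_germ F s fun x hx => by
    by_contra hne
    obtain ⟨y, hy, -, hwa, hne'⟩ := exists_weakAss hFq hx s hne
    exact hne' (h y hy hwa)

omit hF

theorem isAssPoint_iff (F : X.Modules) (x : X) : Curv2.IsAssPoint F x ↔ Curv2.IsWeakAssPoint F x := by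
  have hcolon : ∀ m : F.presheaf.stalk x,
      Submodule.colon (⊥ : Submodule (X.presheaf.stalk x) (F.presheaf.stalk x)) {m} =
        LinearMap.ker (LinearMap.toSpanSingleton (X.presheaf.stalk x) (F.presheaf.stalk x) m) := fun m => by
    ext r
    simp [Submodule.mem_colon_singleton]
  constructor
  · rintro ⟨-, m, hm⟩
    exact ⟨m, by rw [← hcolon]; exact hm.symm⟩
  · rintro ⟨m, hm⟩
    exact ⟨inferInstance, m, by rw [hcolon]; exact hm.symm⟩

end Groth.Agent.WeakAssLib
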