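import Groth.Agent.WeakAssLib.Basic
import Groth.Agent.CohQC.ToSheafExact

/-!
# Stalks of morphisms of modules
-/

set_option autoImplicit false
set_option backward.isDefEq.respectTransparency false

universe u

open CategoryTheory CategoryTheory.Limits AlgebraicGeometry TopologicalSpace Opposite Groth.Agent.QC

namespace Groth.Agent.WeakAssLib

variable {X : Scheme.{u}} {F G : X.Modules}

/-- the map induced on stalks -/
noncomputable abbrev stalkHom (φ : F ⟶ G) (x : X) : F.presheaf.stalk x →+ G.presheaf.stalk x :=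
  ((TopCat.Presheaf.stalkFunctor AddCommGrpCat.{u} x).map φ.mapPresheaf).hom

theorem stalkHom_germ (φ : F ⟶ G) {U : X.Opens} {x : X} (hx : x ∈ U) (s : Γ(F, U)) :
    stalkHom φ x (mgerm F hx s) = mgerm G hx (φ.app U s) :=
  TopCat.Presheaf.stalkFunctor_map_germ_apply U x hx φ.mapPresheaf s

theorem stalkHom_smul (φ : F ⟶ G) (x : X) (r : X.presheaf.stalk x) (m : F.presheaf.stalk x) :
    stalkHom φ x (r • m) = r • stalkHom φ x m := by
  obtain ⟨U, hxU, a, rfl⟩ := X.presheaf.exists_germ_eq (x := x) r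
  obtain ⟨V, hxV, s, rfl⟩ := F.presheaf.exists_germ_eq (x := x) m
  have e1 : (X.presheaf.germ U x hxU).hom a =
      (X.presheaf.germ (U ⊓ V) x ⟨hxU, hxV⟩).hom (resO X inf_le_left a) :=
    (X.presheaf.germ_res_apply _ _ _ _).symm
  have e2 : mgerm F hxV s = mgerm F (U := U ⊓ V) ⟨hxU, hxV⟩ (res F inf_le_right s) :=
    (mgerm_res F inf_le_right (⟨hxU, hxV⟩ : x ∈ U ⊓ V) s).symm
  show stalkHom φ x ((X.presheaf.germ U x hxU).hom a • mgerm F hxV s) =
    (X.presheaf.germ U x hxU).hom a • stalkHom φ x (mgerm F hxV s)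
  rw [e1, e2, ← mgerm_smul, stalkHom_germ, stalkHom_germ, ← mgerm_smul, φ.app_smul]

theorem eq_zero_of_stalkHom (φ : F ⟶ G) {U : X.Opens} {x : X} (hx : x ∈ U) (s : Γ(F, U))
    (hinj : Function.Injective (stalkHom φ x)) (h : φ.app U s = 0) : mgerm F hx s = 0 :=
  hinj (by rw [stalkHom_germ, h, map_zero, map_zero])

theorem stalkHom_injective (φ : F ⟶ G) [Mono φ] (x : X) : Function.Injective (stalkHom φ x) :=
  TopCat.Presheaf.stalkFunctor_map_injective_of_app_injective
    (fun U => app_injective_of_mono φ U) x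

theorem stalk_exact (S : ShortComplex X.Modules) (hS : S.ShortExact) (x : X) (m : S.X₂.presheaf.stalk x)
    (hm : stalkHom S.g x m = 0) : ∃ m₁, stalkHom S.f x m₁ = m := by
  let S' : ShortComplex (SheafOfModules.{u} X.ringCatSheaf) := S
  have hS' : S'.Exact := hS.exact
  have h1 : (S'.map (SheafOfModules.toSheaf.{u} X.ringCatSheaf)).Exact := hS'.map _
  have h2 := (TopCat.Sheaf.exact_iff_stalkFunctor_map_exact (X := X.carrier) _).1 h1 x
  rw [ShortComplex.ab_exact_iff] at h2
  exact h2 m hm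

end Groth.Agent.WeakAssLib
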