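import Groth.Agent.WeakAssLib.Struct

/-!
# Sections invertible at the weakly associated points are regular
-/

set_option autoImplicit false
set_option backward.isDefEq.respectTransparency false

universe u

open CategoryTheory AlgebraicGeometry TopologicalSpace Opposite Groth.Agent.QC

namespace Groth.Agent.WeakAssLib

variable {X : Scheme.{u}}

theorem eq_zero_of_mul_eq_zero {V : X.Opens} (t a : Γ(X, V))
    (ht : ∀ (y : X) (hy : y ∈ V), Curv2.IsWeakAssPoint (Coh.structureModule X) y →
      IsUnit ((X.presheaf.germ V y hy).hom t)) (ha : t * a = 0) : a = 0 := by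
  have hq : Coh.IsQCoh (Coh.structureModule X) :=
    isQCoh_of_isLoc fun x => by
      obtain ⟨U, hU, hx, -⟩ := exists_isAffineOpen_mem_and_subset (X := X) (U := ⊤) (trivial : x ∈ (⊤ : X.Opens))
      exact ⟨U, hU, hx, isLoc_struct hU⟩
  refine eq_zero_of_forall (F := Coh.structureModule X) hq (V := V) a fun y hy hw => ?_
  have h := mgerm_smul (Coh.structureModule X) hy t a
  rw [show (t • a : Γ(Coh.structureModule X, V)) = 0 from ha, map_zero] at h
  exact (ht y hy hw).smul_eq_zero.1 h.symm

theorem germ_mem_nonZeroDivisors {V : X.Opens} (t : Γ(X, V))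
    (ht : ∀ (y : X) (hy : y ∈ V), Curv2.IsWeakAssPoint (Coh.structureModule X) y →
      IsUnit ((X.presheaf.germ V y hy).hom t)) {z : X} (hz : z ∈ V) :
    (X.presheaf.germ V z hz).hom t ∈ nonZeroDivisors (X.presheaf.stalk z) := by
  refine mem_nonZeroDivisors_iff_right.2 fun b hb => ?_
  obtain ⟨W, hzW, a, rfl⟩ := X.presheaf.exists_germ_eq (x := z) b
  let t' : Γ(X, W ⊓ V) := (X.presheaf.map (homOfLE inf_le_right).op).hom t
  let a' : Γ(X, W ⊓ V) := (X.presheaf.map (homOfLE inf_le_left).op).hom a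
  have e1 : (X.presheaf.germ (W ⊓ V) z ⟨hzW, hz⟩).hom (t' * a') = 0 := by
    rw [map_mul, mul_comm, ← hb]
    congr 1 <;> exact X.presheaf.germ_res_apply _ _ _ _
  obtain ⟨W', hzW', iU, iV, he⟩ :=
    TopCat.Presheaf.germ_eq X.presheaf (U := W ⊓ V) (V := W ⊓ V) z ⟨hzW, hz⟩ ⟨hzW, hz⟩ (t' * a') 0 (e1.trans (map_zero _).symm)
  rw [map_mul, map_zero] at he
  have h0 := eq_zero_of_mul_eq_zero ((X.presheaf.map iU.op).hom t') ((X.presheaf.map iU.op).hom a')
    (fun y hy hw => by
      have := ht y (iU.le hy).2 hw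
      convert this using 1
      exact (X.presheaf.germ_res_apply _ _ _ _).trans (X.presheaf.germ_res_apply _ _ _ _)) he
  have := congrArg (X.presheaf.germ W' z hzW').hom h0
  rw [map_zero] at this
  refine Eq.trans ?_ this
  exact ((X.presheaf.germ_res_apply iU z hzW' a').trans (X.presheaf.germ_res_apply _ _ _ _)).symm

theorem isUnit_of_mem_nonZeroDivisors_maximalPt {y : X} (h : ∀ z : X, z ⤳ y → z = y)
    {t : X.presheaf.stalk y} (ht : t ∈ nonZeroDivisors (X.presheaf.stalk y)) : IsUnit t := by
  by_contra hu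
  have hsub : Subsingleton (Spec (X.presheaf.stalk y)) := ⟨fun p q => by
    refine (X.fromSpecStalk y).isEmbedding.injective ?_
    have hp : ∀ p, (X.fromSpecStalk y).base p = y := fun p => by
      refine h _ ?_
      have h1 : (X.fromSpecStalk y).base p ∈ Set.range (X.fromSpecStalk y).base := ⟨p, rfl⟩
      rw [Scheme.range_fromSpecStalk] at h1
      exact h1
    exact (hp p).trans (hp q).symm⟩
  obtain ⟨n, hn⟩ : t ∈ nilradical (X.presheaf.stalk y) := by
    rw [nilradical_eq_sInf]
    refine Submodule.mem_sInf.2 fun (P : Ideal (X.presheaf.stalk y)) (hP : P.IsPrime) => ?_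
    have : (⟨P, hP⟩ : Spec (X.presheaf.stalk y)) = IsLocalRing.closedPoint (X.presheaf.stalk y) :=
      @Subsingleton.elim _ hsub _ _
    have e : P = IsLocalRing.maximalIdeal (X.presheaf.stalk y) := congrArg PrimeSpectrum.asIdeal this
    rw [e]
    exact hu
  exact zero_notMem_nonZeroDivisors (hn ▸ pow_mem ht n)

end Groth.Agent.WeakAssLib
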