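import Groth.Agent.WeakAssLib.Basic
import Groth.Agent.QC.Closure
import Mathlib

/-!
# Weakly associated points of the structure sheaf
-/

set_option autoImplicit false
set_option backward.isDefEq.respectTransparency false

universe u

open CategoryTheory AlgebraicGeometry TopologicalSpace Opposite Groth.Agent.QC

namespace Groth.Agent.WeakAssLib

variable {X : Scheme.{u}}

theorem isLoc_struct {U : X.Opens} (hU : IsAffineOpen U) : IsLoc (Coh.structureModule X) U :=
  isLoc_of_isQCoh hU (hM := isQCoh_unit X)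

/-- On an affine open, the structure module has the annihilators of the local ring. -/
theorem colon_germ_eq {U : X.Opens} (hU : IsAffineOpen U) {x : X} (hx : x ∈ U) (s : Γ(X, U)) :
    LinearMap.ker (LinearMap.toSpanSingleton (X.presheaf.stalk x) ((Coh.structureModule X).presheaf.stalk x)
        (mgerm (Coh.structureModule X) hx s)) =
      Submodule.colon (⊥ : Submodule (X.presheaf.stalk x) (X.presheaf.stalk x))
        {(X.presheaf.germ U x hx).hom s} := by
  let p := (hU.primeIdealOf ⟨x, hx⟩).asIdeal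
  letI := (X.presheaf.germ U x hx).hom.toAlgebra
  haveI : IsLocalization.AtPrime (X.presheaf.stalk x) p := hU.isLocalization_stalk ⟨x, hx⟩
  ext z
  obtain ⟨r, c, rfl⟩ := IsLocalization.exists_mk'_eq p.primeCompl z
  rw [LinearMap.mem_ker, LinearMap.toSpanSingleton_apply, Submodule.mem_colon_singleton, Submodule.mem_bot]
  have hc : IsUnit ((X.presheaf.germ U x hx).hom (c : Γ(X, U))) :=
    IsLocalization.map_units (X.presheaf.stalk x) c
  have hk : (X.presheaf.germ U x hx).hom (c : Γ(X, U)) * IsLocalization.mk' (X.presheaf.stalk x) r c =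
      (X.presheaf.germ U x hx).hom r := IsLocalization.mk'_spec' _ r c
  rw [← hc.smul_eq_zero, ← smul_assoc, smul_eq_mul, hk, smul_eq_mul]
  refine Iff.trans ?_ hc.mul_right_eq_zero
  rw [← mul_assoc, hk, ← mgerm_smul, ← map_mul, germ_eq_zero_iff hU (isLoc_struct hU) hx]
  constructor
  · rintro ⟨a, ha, has⟩
    exact (IsLocalization.map_eq_zero_iff p.primeCompl (X.presheaf.stalk x) (r * s)).2 ⟨⟨a, ha⟩, has⟩
  · intro h
    obtain ⟨a, has⟩ := (IsLocalization.map_eq_zero_iff p.primeCompl (X.presheaf.stalk x) (r * s)).1 h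
    exact ⟨a.1, a.2, has⟩

/-- The associated primes of the local ring detect the weakly associated points of the structure sheaf. -/
theorem isWeakAssPoint_struct_iff (x : X) : Curv2.IsWeakAssPoint (Coh.structureModule X) x ↔
    IsAssociatedPrime (IsLocalRing.maximalIdeal (X.presheaf.stalk x)) (X.presheaf.stalk x) := by
  obtain ⟨U, hU, hx, -⟩ := exists_isAffineOpen_mem_and_subset (X := X) (U := ⊤) (trivial : x ∈ (⊤ : X.Opens))
  let g := (X.presheaf.germ U x hx).hom
  constructor
  · rintro ⟨m, hm⟩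
    obtain ⟨a, s, ha, has⟩ := exists_germ hU (isLoc_struct hU) hx m
    refine ⟨inferInstance, g s, ?_⟩
    rw [← colon_germ_eq hU hx s, ← hm]
    congr 1
    ext z
    rw [LinearMap.mem_ker, LinearMap.mem_ker, LinearMap.toSpanSingleton_apply, LinearMap.toSpanSingleton_apply,
      ← has, smul_comm, (isUnit_germ hU hx ha).smul_eq_zero]
  · rintro ⟨-, m, hm⟩
    let p := (hU.primeIdealOf ⟨x, hx⟩).asIdeal
    letI := g.toAlgebra
    haveI : IsLocalization.AtPrime (X.presheaf.stalk x) p := hU.isLocalization_stalk ⟨x, hx⟩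
    obtain ⟨s, c, rfl⟩ := IsLocalization.exists_mk'_eq p.primeCompl m
    refine ⟨mgerm (Coh.structureModule X) hx s, ?_⟩
    rw [colon_germ_eq hU hx s, hm]
    congr 1
    ext z
    rw [Submodule.mem_colon_singleton, Submodule.mem_colon_singleton, Submodule.mem_bot, Submodule.mem_bot]
    have e : g s = g (c : Γ(X, U)) * IsLocalization.mk' (X.presheaf.stalk x) s c :=
      (IsLocalization.mk'_spec' _ s c).symm
    rw [show (X.presheaf.germ U x hx).hom s = _ from e, smul_eq_mul, smul_eq_mul, mul_left_comm]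
    exact IsUnit.mul_right_eq_zero (IsLocalization.map_units (X.presheaf.stalk x) c)

theorem minimal_iff_maximalPt {U : X.Opens} (hU : IsAffineOpen U) {x : X} (hx : x ∈ U) :
    (∀ y : X, y ⤳ x → y = x) ↔ (hU.primeIdealOf ⟨x, hx⟩).asIdeal ∈ minimalPrimes Γ(X, U) := by
  have e : hU.fromSpec.base (hU.primeIdealOf ⟨x, hx⟩) = x := hU.fromSpec_primeIdealOf ⟨x, hx⟩
  constructor
  · intro h
    refine ⟨⟨(hU.primeIdealOf ⟨x, hx⟩).isPrime, bot_le⟩, fun q hq hle => ?_⟩
    have h1 := ((PrimeSpectrum.le_iff_specializes (⟨q, hq.1⟩ : Spec Γ(X, U)) (hU.primeIdealOf ⟨x, hx⟩)).1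
      hle).map hU.fromSpec.continuous
    rw [e] at h1
    have h2 := hU.fromSpec.isOpenEmbedding.injective ((h _ h1).trans e.symm)
    rw [← congrArg PrimeSpectrum.asIdeal h2]
  · intro h y hy
    have hyU : y ∈ U := hy.mem_open U.isOpen hx
    have e' : hU.fromSpec.base (hU.primeIdealOf ⟨y, hyU⟩) = y := hU.fromSpec_primeIdealOf ⟨y, hyU⟩
    rw [← e, ← e'] at hy ⊢
    have hle := (PrimeSpectrum.le_iff_specializes (hU.primeIdealOf ⟨y, hyU⟩) (hU.primeIdealOf ⟨x, hx⟩)).2
      (hU.fromSpec.isOpenEmbedding.isInducing.specializes_iff.1 hy)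
    rw [PrimeSpectrum.ext (le_antisymm hle (h.2 ⟨(hU.primeIdealOf ⟨y, hyU⟩).isPrime, bot_le⟩ hle))]

end Groth.Agent.WeakAssLib
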