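import Groth.Agent.WeakAssLib.Push

/-!
# Weakly associated points of finite direct images
-/

set_option autoImplicit false
set_option backward.isDefEq.respectTransparency false

universe u

open CategoryTheory AlgebraicGeometry TopologicalSpace Opposite Groth.Agent.QC

namespace Groth.Agent.WeakAssLib

/-- For a finite ring map, the contraction of a prime minimal over an annihilator is minimal over
the contraction of an annihilator. -/
theorem exists_minimal_comap {A B M : Type u} [CommRing A] [CommRing B] [Algebra A B] [Module.Finite A B]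
    [AddCommGroup M] [Module B M] (m : M) (q : Ideal B)
    (hq : q ∈ Ideal.minimalPrimes (LinearMap.ker (LinearMap.toSpanSingleton B M m))) :
    ∃ m' : M, q.comap (algebraMap A B) ∈
      Ideal.minimalPrimes (Ideal.comap (algebraMap A B) (LinearMap.ker (LinearMap.toSpanSingleton B M m'))) := by
  classical
  have hqp : q.IsPrime := hq.1.1
  set p := q.comap (algebraMap A B) with hp
  have hpp : p.IsPrime := hqp.comap _
  set T := ((Algebra.QuasiFinite.finite_primesOver (S := B) p).toFinset).filter (· ≠ q) with hT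
  have hTmem : ∀ Q : Ideal B, Q ∈ T ↔ (Q.IsPrime ∧ Q.comap (algebraMap A B) = p) ∧ Q ≠ q := fun Q => by
    simp only [hT, Finset.mem_filter, Set.Finite.mem_toFinset]
    refine and_congr_left fun _ => ?_
    exact ⟨fun h => ⟨h.1, h.2.over.symm⟩, fun h => ⟨h.1, ⟨h.2.symm⟩⟩⟩
  obtain ⟨x, hxq, hx⟩ : ∃ x ∈ q, ∀ Q ∈ T, x ∉ Q := by
    by_contra hc
    have hsub : (q : Set B) ⊆ ⋃ Q ∈ (T : Set (Ideal B)), (Q : Set B) := fun x hxq => by
      by_contra hxn
      exact hc ⟨x, hxq, fun Q hQ hxQ => hxn (Set.mem_biUnion hQ hxQ)⟩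
    obtain ⟨Q, hQ, hqQ⟩ := (Ideal.subset_union_prime (s := T) (f := id) q q
      (fun Q hQ _ _ => ((hTmem Q).1 hQ).1.1)).1 hsub
    obtain ⟨⟨hQp, hQc⟩, hne⟩ := (hTmem Q).1 hQ
    rcases lt_or_eq_of_le (show q ≤ Q from hqQ) with h | h
    · exact (Ideal.IsIntegral.comap_lt_comap (R := A) h).ne hQc.symm
    · exact hne h.symm
  set J := LinearMap.ker (LinearMap.toSpanSingleton B M m) with hJ
  obtain ⟨b, hb, k, hbk⟩ : ∃ b : B, b ∉ q ∧ ∃ k : ℕ, b * x ^ k ∈ J := by
    by_contra hc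
    let S : Submonoid B := q.primeCompl ⊔ Submonoid.powers x
    have hdis : Disjoint (J : Set B) (S : Set B) := by
      rw [Set.disjoint_left]
      intro y hyJ hyS
      obtain ⟨b, hb, c, ⟨k, rfl⟩, rfl⟩ := Submonoid.mem_sup.1 hyS
      exact hc ⟨b, hb, k, hyJ⟩
    obtain ⟨P, hP, hJP, hPS⟩ := Ideal.exists_le_prime_disjoint J S hdis
    have hPq : P ≤ q := fun y hy => by
      by_contra hyq
      exact Set.disjoint_left.1 hPS hy (Submonoid.mem_sup_left hyq)
    exact Set.disjoint_left.1 hPS (hq.2 ⟨hP, hJP⟩ hPq hxq)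
      (Submonoid.mem_sup_right (Submonoid.mem_powers x))
  refine ⟨b • m, ?_⟩
  set K := LinearMap.ker (LinearMap.toSpanSingleton B M (b • m)) with hK
  have hKmem : ∀ c : B, c ∈ K ↔ c * b ∈ J := fun c => by
    simp [hK, hJ, mul_smul]
  have hKq : K ≤ q := fun c hc => (hqp.mem_or_mem (hq.1.2 ((hKmem c).1 hc))).resolve_right hb
  have hxK : x ^ k ∈ K := (hKmem _).2 (by rwa [mul_comm] at hbk)
  refine ⟨⟨hpp, Ideal.comap_mono hKq⟩, fun p₀ hp₀ hle => ?_⟩
  have := hp₀.1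
  obtain ⟨Q, hKQ, hQp, hQc⟩ := Ideal.exists_ideal_over_prime_of_isIntegral p₀ K hp₀.2
  obtain ⟨Q₁, hQQ, hQ₁p, hQ₁c⟩ := Ideal.exists_ideal_over_prime_of_isIntegral p Q (hQc ▸ hle)
  have hQ1 : Q₁ = q := by
    by_contra hne
    exact hx Q₁ ((hTmem Q₁).2 ⟨⟨hQ₁p, hQ₁c⟩, hne⟩) (hQ₁p.mem_of_pow_mem k (hQQ (hKQ hxK)))
  subst hQ1
  have hJQ : J ≤ Q := le_trans (fun c hc => (hKmem c).2 (Ideal.mul_mem_right b J hc)) hKQ
  exact (Ideal.comap_mono (hq.2 ⟨hQp, hJQ⟩ hQQ)).trans hQc.le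

variable {X S : Scheme.{u}} (f : X ⟶ S) [IsFinite f] (F : X.Modules)

theorem image_weakAss_finite (hF : Coh.IsQCoh F) (x : X) (hx : Curv2.IsWeakAssPoint F x) :
    Curv2.IsWeakAssPoint ((Scheme.Modules.pushforward f).obj F) (f x) := by
  obtain ⟨V, hV, hyV, -⟩ := exists_isAffineOpen_mem_and_subset (X := S) (U := ⊤) (trivial : f x ∈ (⊤ : S.Opens))
  let U := f ⁻¹ᵁ V
  have hU : IsAffineOpen U := hV.preimage f
  obtain ⟨s, hs⟩ := (isWeakAssPoint_iff hU (isLoc_of_isQCoh hU (hM := hF)) hyV).1 hx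
  algebraize [(f.app V).hom]
  have : Module.Finite Γ(S, V) Γ(X, U) := IsFinite.finite_app f V hV
  obtain ⟨t, ht⟩ := exists_minimal_comap (A := Γ(S, V)) s _ hs
  refine (isWeakAssPoint_iff hV (isLoc_push f F hF hV) hyV).2 ⟨t, ?_⟩
  have hker : LinearMap.ker (LinearMap.toSpanSingleton Γ(S, V) Γ((Scheme.Modules.pushforward f).obj F, V) t) =
      Ideal.comap (f.app V).hom (LinearMap.ker (LinearMap.toSpanSingleton Γ(X, U) Γ(F, U) t)) := by
    ext a; rfl
  have hp : hV.primeIdealOf ⟨f x, hyV⟩ = PrimeSpectrum.comap (f.app V).hom (hU.primeIdealOf ⟨x, hyV⟩) := by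
    apply hV.fromSpec.isOpenEmbedding.injective
    have h2 := congrArg (fun g : Spec Γ(X, U) ⟶ S => g.base (hU.primeIdealOf ⟨x, hyV⟩))
      (hV.SpecMap_appLE_fromSpec f hU le_rfl)
    rw [← Scheme.Hom.app_eq_appLE] at h2
    have e : hU.fromSpec.base (hU.primeIdealOf ⟨x, hyV⟩) = x := hU.fromSpec_primeIdealOf ⟨x, hyV⟩
    refine (hV.fromSpec_primeIdealOf ⟨f x, hyV⟩).trans (Eq.trans ?_ h2.symm)
    show f.base x = f.base (hU.fromSpec.base (hU.primeIdealOf ⟨x, hyV⟩))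
    rw [e]
  rw [hker, hp]
  exact ht

end Groth.Agent.WeakAssLib
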