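import Groth.Agent.WeakAssLib.Basic

/-!
# Weakly associated points of affine direct images
-/

set_option autoImplicit false
set_option backward.isDefEq.respectTransparency false

universe u

open CategoryTheory AlgebraicGeometry TopologicalSpace Opposite Groth.Agent.QC

namespace Groth.Agent.WeakAssLib

variable {X S : Scheme.{u}} (f : X ⟶ S) [IsAffineHom f] (F : X.Modules)

omit [IsAffineHom f] in
theorem res_transport {U W W' : X.Opens} (e : W = W') (h : W ≤ U) (s : Γ(F, U)) :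
    res F (e ▸ h : W' ≤ U) s = 0 ↔ res F h s = 0 := by subst e; rfl

theorem isLoc_push (hF : Coh.IsQCoh F) {V : S.Opens} (hV : IsAffineOpen V) :
    IsLoc ((Scheme.Modules.pushforward f).obj F) V := by
  have h := isLoc_of_isQCoh (hV.preimage f) (hM := hF)
  have hpre : ∀ a : Γ(S, V), f ⁻¹ᵁ S.basicOpen a = X.basicOpen (f.app V a) :=
    fun a => Scheme.preimage_basicOpen f a
  constructor
  · intro a t
    obtain ⟨n, s, hs⟩ := h.exists_extend (f.app V a) (res F (hpre a).ge t)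
    refine ⟨n, s, ?_⟩
    show res F _ s = (f.app (S.basicOpen a)).hom (resO S _ a ^ n) • (show Γ(F, f ⁻¹ᵁ S.basicOpen a) from t)
    have h1 := congrArg (res F (hpre a).le) hs
    rw [res_res, res_smul, res_res, res_self, map_pow, resO_resO] at h1
    rw [map_pow]
    refine h1.trans ?_
    congr 2
    exact (congr($(f.naturality (homOfLE (S.basicOpen_le a)).op) a)).symm
  · intro a s hs
    obtain ⟨n, hn⟩ := h.exists_pow_smul_eq_zero (f.app V a) s (by
      have h1 := congrArg (res F (hpre a).ge) hs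
      rw [map_zero] at h1
      exact (res_res F _ _ s).symm.trans h1)
    refine ⟨n, ?_⟩
    show (f.app V).hom (a ^ n) • (show Γ(F, f ⁻¹ᵁ V) from s) = (0 : Γ(F, f ⁻¹ᵁ V))
    rw [map_pow]
    exact hn

theorem exists_above (hF : Coh.IsQCoh F) (y : S)
    (hy : Curv2.IsWeakAssPoint ((Scheme.Modules.pushforward f).obj F) y) :
    ∃ x : X, f x = y ∧ Curv2.IsWeakAssPoint F x := by
  obtain ⟨V, hV, hyV, -⟩ := exists_isAffineOpen_mem_and_subset (X := S) (U := ⊤) (trivial : y ∈ (⊤ : S.Opens))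
  obtain ⟨s, hs⟩ := (isWeakAssPoint_iff hV (isLoc_push f F hF hV) hyV).1 hy
  let U := f ⁻¹ᵁ V
  have hU : IsAffineOpen U := hV.preimage f
  let J : Ideal Γ(X, U) := LinearMap.ker (LinearMap.toSpanSingleton Γ(X, U) Γ(F, U) s)
  have hJ : LinearMap.ker (LinearMap.toSpanSingleton Γ(S, V) Γ((Scheme.Modules.pushforward f).obj F, V) s) =
      J.comap (f.app V).hom := by ext a; rfl
  rw [hJ] at hs
  obtain ⟨q, hq, hqp⟩ := Ideal.exists_minimalPrimes_comap_eq (f.app V).hom _ hs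
  let q' : Spec Γ(X, U) := ⟨q, hq.1.1⟩
  have hx : hU.fromSpec.base q' ∈ U := hU.range_fromSpec.subset ⟨q', rfl⟩
  have hqx : hU.primeIdealOf ⟨_, hx⟩ = q' :=
    hU.fromSpec.isOpenEmbedding.injective (hU.fromSpec_primeIdealOf ⟨_, hx⟩)
  refine ⟨hU.fromSpec.base q', ?_,
    (isWeakAssPoint_iff hU (isLoc_of_isQCoh hU (hM := hF)) hx).2 ⟨s, by rw [hqx]; exact hq⟩⟩
  have h1 : hV.fromSpec.base (PrimeSpectrum.comap (f.app V).hom q') = f.base (hU.fromSpec.base q') := by
    have h2 := congrArg (fun g : Spec Γ(X, U) ⟶ S => g.base q') (hV.SpecMap_appLE_fromSpec f hU le_rfl)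
    rw [← Scheme.Hom.app_eq_appLE] at h2
    exact h2
  have e : hV.fromSpec.base (hV.primeIdealOf ⟨y, hyV⟩) = y := hV.fromSpec_primeIdealOf ⟨y, hyV⟩
  rw [show PrimeSpectrum.comap (f.app V).hom q' = hV.primeIdealOf ⟨y, hyV⟩ from PrimeSpectrum.ext hqp, e] at h1
  exact h1.symm

theorem image_weakAss [IsLocallyNoetherian X] (hF : Coh.IsQCoh F) (x : X) (hx : Curv2.IsWeakAssPoint F x) :
    Curv2.IsWeakAssPoint ((Scheme.Modules.pushforward f).obj F) (f x) := by
  obtain ⟨V, hV, hyV, -⟩ := exists_isAffineOpen_mem_and_subset (X := S) (U := ⊤) (trivial : f x ∈ (⊤ : S.Opens))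
  let U := f ⁻¹ᵁ V
  have hU : IsAffineOpen U := hV.preimage f
  have : IsNoetherianRing Γ(X, U) := IsLocallyNoetherian.component_noetherian ⟨U, hU⟩
  obtain ⟨s, hs⟩ := (isWeakAssPoint_iff hU (isLoc_of_isQCoh hU (hM := hF)) hyV).1 hx
  have hs' : (hU.primeIdealOf ⟨x, hyV⟩).asIdeal ∈
      Ideal.minimalPrimes (Submodule.colon (⊥ : Submodule Γ(X, U) Γ(F, U)) {s}) := by
    convert hs using 2
    ext r
    simp [Submodule.mem_colon_singleton]
  obtain ⟨t, ht⟩ := Submodule.exists_eq_colon_of_mem_minimalPrimes hs'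
  refine (isWeakAssPoint_iff hV (isLoc_push f F hF hV) hyV).2 ⟨t, ?_⟩
  have hker : LinearMap.ker (LinearMap.toSpanSingleton Γ(S, V) Γ((Scheme.Modules.pushforward f).obj F, V) t) =
      (hU.primeIdealOf ⟨x, hyV⟩).asIdeal.comap (f.app V).hom := by
    rw [ht]
    ext a
    simp only [Ideal.mem_comap, Submodule.mem_colon_singleton, Submodule.mem_bot]
    rfl
  have hp : hV.primeIdealOf ⟨f x, hyV⟩ = PrimeSpectrum.comap (f.app V).hom (hU.primeIdealOf ⟨x, hyV⟩) := by
    apply hV.fromSpec.isOpenEmbedding.injective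
    have h2 := congrArg (fun g : Spec Γ(X, U) ⟶ S => g.base (hU.primeIdealOf ⟨x, hyV⟩))
      (hV.SpecMap_appLE_fromSpec f hU le_rfl)
    rw [← Scheme.Hom.app_eq_appLE] at h2
    have e : hU.fromSpec.base (hU.primeIdealOf ⟨x, hyV⟩) = x := hU.fromSpec_primeIdealOf ⟨x, hyV⟩
    refine (hV.fromSpec_primeIdealOf ⟨f x, hyV⟩).trans (Eq.trans ?_ h2.symm)
    show f.base x = f.base (hU.fromSpec.base (hU.primeIdealOf ⟨x, hyV⟩))
    rw [e]
  rw [hker, hp]
  have hprime : (PrimeSpectrum.comap (f.app V).hom (hU.primeIdealOf ⟨x, hyV⟩)).asIdeal.IsPrime :=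
    (PrimeSpectrum.comap (f.app V).hom (hU.primeIdealOf ⟨x, hyV⟩)).isPrime
  exact ⟨⟨hprime, le_rfl⟩, fun q hq _ => hq.2⟩

end Groth.Agent.WeakAssLib
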